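import Cfsg.Agent.H407.CV.AbP
import Cfsg.Agent.H407.CV.SpB
import Cfsg.Agent.H407.CV.SpNum
import Cfsg.Agent.H548.CV.Ab
import Cfsg.Agent.H548.CV.SpFour
import Cfsg.Agent.H977.Cyc.LfSp
import Cfsg.Agent.S0270
import Mathlib

/-!
# S3442, rows X6, X7, X8 (`r` odd): `PSp_2n(q)`, `q` odd, `n ≥ 2`, `n ≠ 3` (helper407)

`hit_psp_odd` : `Hit r (PSp n F)` for every odd prime `r` different from the characteristic.
-/

set_option autoImplicit false
set_option linter.unusedSectionVars false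

namespace Cfsg.Agent.H407.CV

open Matrix Cfsg.Agent.H373.CV Cfsg.Agent.H357.CV Cfsg.Agent.H548.CV

universe u v

section mats

variable {F : Type v} [Field F]

/-- the block embedding of matrices -/
def emH (F : Type v) [Field F] (a b : ℕ) : Matrix (Fin a) (Fin a) F →* Matrix (Fin (a + b)) (Fin (a + b)) F where
  toFun A := (fromBlocks A 0 0 1).submatrix finSumFinEquiv.symm finSumFinEquiv.symm
  map_one' := by rw [fromBlocks_one, submatrix_one_equiv]
  map_mul' A B := by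
    rw [submatrix_mul_equiv, fromBlocks_multiply]
    simp

theorem emH_injective (a b : ℕ) : Function.Injective (emH F a b) := by
  intro A B h
  have h1 : (fromBlocks A 0 0 1 : Matrix (Fin a ⊕ Fin b) (Fin a ⊕ Fin b) F) = fromBlocks B 0 0 1 := by
    ext i j
    have h2 := congrFun (congrFun h (finSumFinEquiv i)) (finSumFinEquiv j)
    change (fromBlocks A 0 0 1 : Matrix (Fin a ⊕ Fin b) (Fin a ⊕ Fin b) F) (finSumFinEquiv.symm (finSumFinEquiv i))
      (finSumFinEquiv.symm (finSumFinEquiv j)) = (fromBlocks B 0 0 1 : Matrix (Fin a ⊕ Fin b) (Fin a ⊕ Fin b) F)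
      (finSumFinEquiv.symm (finSumFinEquiv i)) (finSumFinEquiv.symm (finSumFinEquiv j)) at h2
    rwa [Equiv.symm_apply_apply, Equiv.symm_apply_apply] at h2
  exact (fromBlocks_inj.1 h1).1

/-- the block embedding `GL_a → GL_(a+b)` -/
def em (F : Type v) [Field F] (a b : ℕ) : GL (Fin a) F →* GL (Fin (a + b)) F := Units.map (emH F a b)

theorem em_injective (a b : ℕ) : Function.Injective (em F a b) := Units.map_injective (emH_injective a b)

/-- matrices of the second block -/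
def cM (a b : ℕ) (S : Matrix (Fin b) (Fin b) F) : Matrix (Fin (a + b)) (Fin (a + b)) F :=
  (fromBlocks 0 0 0 S).submatrix finSumFinEquiv.symm finSumFinEquiv.symm

theorem cM_transpose {a b : ℕ} {S : Matrix (Fin b) (Fin b) F} (hS : Sᵀ = S) : (cM a b S)ᵀ = cM a b S := by
  unfold cM
  rw [transpose_submatrix, fromBlocks_transpose, hS, transpose_zero, transpose_zero, transpose_zero]

theorem cM_apply {a b : ℕ} (S : Matrix (Fin b) (Fin b) F) (i j : Fin b) :
    cM a b S (Fin.natAdd a i) (Fin.natAdd a j) = S i j := by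
  unfold cM
  rw [submatrix_apply, finSumFinEquiv_symm_apply_natAdd, finSumFinEquiv_symm_apply_natAdd, fromBlocks_apply₂₂]

theorem em_cM {a b : ℕ} (g : GL (Fin a) F) (S : Matrix (Fin b) (Fin b) F) :
    (em F a b g : Matrix (Fin (a + b)) (Fin (a + b)) F) * cM a b S * (em F a b g : Matrix _ _ F)ᵀ = cM a b S := by
  have h1 : (em F a b g : Matrix (Fin (a + b)) (Fin (a + b)) F) =
      (fromBlocks (g : Matrix _ _ F) 0 0 1).submatrix finSumFinEquiv.symm finSumFinEquiv.symm := rfl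
  rw [h1]
  unfold cM
  rw [transpose_submatrix, submatrix_mul_equiv, submatrix_mul_equiv, fromBlocks_transpose, fromBlocks_multiply,
    fromBlocks_multiply]
  simp

theorem sy_congr {m : ℕ} {S T : Matrix (Fin m) (Fin m) F} {hS : Sᵀ = S} {hT : Tᵀ = T} (h : sy S hS = sy T hT) : S = T :=
  (fromBlocks_inj.1 (congrArg Subtype.val h)).2.1

theorem smul_sym {m : ℕ} {S : Matrix (Fin m) (Fin m) F} (hS : Sᵀ = S) (k : ℕ) : (k • S)ᵀ = k • S := by
  rw [transpose_smul, hS]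

theorem sy_pow {m : ℕ} (S : Matrix (Fin m) (Fin m) F) (hS : Sᵀ = S) (k : ℕ) :
    sy S hS ^ k = sy (k • S) (smul_sym hS k) := by
  induction k with
  | zero =>
    apply Subtype.ext
    show (1 : Matrix _ _ F) = fromBlocks 1 (0 • S) 0 1
    rw [zero_smul, fromBlocks_one]
  | succ k ih =>
    rw [pow_succ, ih, sy_mul]
    apply Subtype.ext
    show fromBlocks _ _ _ _ = fromBlocks _ _ _ _
    rw [succ_nsmul]

theorem rad_pow {m p : ℕ} [CharP F p] : ∀ a ∈ rad m F, a ^ p = 1 := by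
  rintro _ ⟨S, hS, rfl⟩
  rw [sy_pow]
  apply Subtype.ext
  show fromBlocks 1 (p • S) 0 1 = (1 : Matrix _ _ F)
  have h1 : p • S = 0 := by
    ext i j
    show p • S i j = 0
    rw [nsmul_eq_mul, CharP.cast_eq_zero, zero_mul]
  rw [h1, fromBlocks_one]

theorem rad_inj {m : ℕ} (h2 : (2 : F) ≠ 0) {a : symplecticGroup (Fin m) F} (ha : a ∈ rad m F) (h : pr m F a = 1) :
    a = 1 := by
  obtain ⟨S, hS, rfl⟩ := ha
  have h1 := pr_sq h
  rw [sy_pow] at h1
  have h3 : (2 • S : Matrix (Fin m) (Fin m) F) = 0 := by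
    have h4 : fromBlocks 1 (2 • S) 0 1 = (1 : Matrix (Fin m ⊕ Fin m) (Fin m ⊕ Fin m) F) := congrArg Subtype.val h1
    rw [← fromBlocks_one] at h4
    exact (fromBlocks_inj.1 h4).2.1
  have h4 : S = 0 := by
    ext i j
    have h5 := congrFun (congrFun h3 i) j
    change 2 • S i j = 0 at h5
    rw [nsmul_eq_mul] at h5
    exact (mul_eq_zero.1 h5).resolve_left (by exact_mod_cast h2)
  apply Subtype.ext
  show fromBlocks 1 S 0 1 = (1 : Matrix _ _ F)
  rw [h4, fromBlocks_one]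

theorem rad_inj' {m : ℕ} (h2 : (2 : F) ≠ 0) {a b : symplecticGroup (Fin m) F} (ha : a ∈ rad m F) (hb : b ∈ rad m F)
    (h : pr m F a = pr m F b) : a = b := by
  have h1 := rad_inj h2 ((rad m F).mul_mem ha ((rad m F).inv_mem hb)) (by rw [map_mul, map_inv, h, mul_inv_cancel])
  exact mul_inv_eq_one.1 h1

/-- an element of odd order is not trivial on the radical (as in H548.CV.SpFour, any characteristic) -/
theorem exists_ne_gen {m : ℕ} {g : GL (Fin m) F} (hg : g ≠ 1) (hodd : Odd (orderOf g)) :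
    ∃ a ∈ rad m F, dg g * a ≠ a * dg g := by
  by_contra hcon
  push Not at hcon
  have key : ∀ (S : Matrix (Fin m) (Fin m) F), Sᵀ = S →
      (g : Matrix (Fin m) (Fin m) F) * S * (g : Matrix (Fin m) (Fin m) F)ᵀ = S := by
    intro S hS
    have h1 := hcon _ ⟨S, hS, rfl⟩
    have h2 : dg g * sy S hS * (dg g)⁻¹ = sy S hS := by rw [h1, mul_inv_cancel_right]
    rw [dg_sy] at h2
    exact (fromBlocks_inj.1 (congrArg Subtype.val h2)).2.1
  have h1 := key 1 transpose_one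
  rw [mul_one] at h1
  have h2 : ∀ (S : Matrix (Fin m) (Fin m) F), Sᵀ = S →
      (g : Matrix (Fin m) (Fin m) F) * S = S * (g : Matrix (Fin m) (Fin m) F) := by
    intro S hS
    have h3 : (g : Matrix (Fin m) (Fin m) F)ᵀ * (g : Matrix (Fin m) (Fin m) F) = 1 := mul_eq_one_comm.1 h1
    have h4 := congrArg (fun X => X * (g : Matrix (Fin m) (Fin m) F)) (key S hS)
    simp only [mul_assoc, h3, mul_one] at h4
    exact h4
  have h3 : ∀ i j : Fin m, i ≠ j → (g : Matrix (Fin m) (Fin m) F) i j = 0 := by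
    intro i j hij
    have h4 := congrFun (congrFun (h2 (Matrix.single j j 1) (by rw [transpose_single])) i) j
    rw [mul_single_apply_same, single_mul_apply_of_ne _ _ _ _ _ hij, mul_one] at h4
    exact h4
  have h5 : g ^ 2 = 1 := by
    apply Units.ext
    rw [Units.val_pow_eq_pow_val, Units.val_one, pow_two]
    have h6 : (g : Matrix (Fin m) (Fin m) F)ᵀ = (g : Matrix (Fin m) (Fin m) F) := by
      ext i j
      rw [transpose_apply]
      rcases eq_or_ne i j with rfl | hij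
      · rfl
      · rw [h3 i j hij, h3 j i hij.symm]
    rw [h6] at h1
    exact h1
  have h6 := orderOf_dvd_of_pow_eq_one h5
  have h7 : orderOf g = 1 := by
    have h8 : Nat.Coprime (orderOf g) 2 := hodd.coprime_two_right
    exact Nat.eq_one_of_dvd_coprimes h8 dvd_rfl h6
  exact hg (orderOf_eq_one_iff.1 h7)

end mats

section main

variable {F : Type v} [Field F] [Fintype F]

theorem finite_psp (n : ℕ) : Finite (PSp n F) := Quotient.finite _

/-- the image of the radical -/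
def RR (n : ℕ) (F : Type v) [Field F] : Subgroup (PSp n F) := (rad n F).map (pr n F)

theorem RR_comm {n : ℕ} : ∀ a ∈ RR n F, ∀ b ∈ RR n F, a * b = b * a := by
  rintro _ ⟨a, ha, rfl⟩ _ ⟨b, hb, rfl⟩
  rw [← map_mul, ← map_mul, rad_comm a ha b hb]

theorem RR_pow {n p : ℕ} [CharP F p] : ∀ a ∈ RR n F, a ^ p = 1 := by
  rintro _ ⟨a, ha, rfl⟩
  rw [← map_pow, rad_pow a ha, map_one]

theorem RR_card {n p r : ℕ} [CharP F p] (hp : p.Prime) (hr : r.Prime) (hrp : r ≠ p) : ¬ r ∣ Nat.card (RR n F) := by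
  intro h1
  have := finite_psp (F := F) n
  have := Fact.mk hr
  obtain ⟨a, ha⟩ := exists_prime_orderOf_dvd_card' (G := RR n F) r h1
  have h2 : a ^ p = 1 := Subtype.ext (RR_pow a.1 a.2)
  have h3 := orderOf_dvd_of_pow_eq_one h2
  rw [ha] at h3
  exact hrp ((Nat.prime_dvd_prime_iff_eq hr hp).1 h3)

theorem RR_conj {n : ℕ} (g : GL (Fin n) F) : ∀ a ∈ RR n F, pr n F (dg g) * a * (pr n F (dg g))⁻¹ ∈ RR n F := by
  rintro _ ⟨a, ha, rfl⟩
  exact ⟨_, rad_conj g a ha, by rw [map_mul, map_mul, map_inv]⟩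

/-- no element of order `r ^ (k+2)` -/
theorem order_ne {n r k : ℕ} (hr : r.Prime) (hr2 : r ≠ 2) (hrF : (r : F) ≠ 0)
    (hexp : ∀ j, 1 ≤ j → j ≤ n → ¬ r ^ (k + 2) ∣ Fintype.card F ^ (2 * j) - 1) (z : PSp n F) :
    orderOf z ≠ r * r ^ (k + 1) := by
  intro h
  obtain ⟨x, rfl⟩ := pr_surjective z
  rw [← pow_succ'] at h
  obtain ⟨y, hy⟩ := exists_lift hr hr2 x h
  obtain ⟨e, he1, he2, he⟩ := dvd_of_order_pow hr hr2 hrF y hy
  exact hexp e he1 he2 he

/-- `g` of odd order does not centralise the image of the radical -/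
theorem RR_ne {n : ℕ} (h2 : (2 : F) ≠ 0) {g : GL (Fin n) F} (hg : g ≠ 1) (hodd : Odd (orderOf g)) :
    ∃ a ∈ RR n F, pr n F (dg g) * a ≠ a * pr n F (dg g) := by
  obtain ⟨a, ha, hne⟩ := exists_ne_gen hg hodd
  refine ⟨pr n F a, ⟨a, ha, rfl⟩, fun h => hne ?_⟩
  have h1 : dg g * a * (dg g)⁻¹ = a := by
    apply rad_inj' h2 (rad_conj g a ha) ha
    rw [map_mul, map_mul, h, map_inv, mul_inv_cancel_right]
  rw [mul_inv_eq_iff_eq_mul] at h1
  exact h1

/-- the trivial modules -/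
theorem triv_psp {n r : ℕ} (hn : 2 ≤ n) (hq : 3 ≤ Fintype.card F) (hr : r.Prime) (hr2 : r ≠ 2)
    (hd : r ∣ Nat.card (PSp n F)) : ∃ x : PSp n F, ¬ r ∣ orderOf x ∧ ∀ y : PSp n F, orderOf y ≠ r * orderOf x := by
  have := finite_psp (F := F) n
  obtain ⟨t, ht, htr, htd, hno⟩ := (H977.CycSp.lf_psp (F := F) hn fun _ => hq).odd r hr hr2 hd
  have := Fact.mk ht
  obtain ⟨x, hx⟩ := exists_prime_orderOf_dvd_card' (G := PSp n F) t htd
  refine ⟨x, ?_, fun y hy => hno ⟨y, by rw [hy, hx]⟩⟩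
  rw [hx]
  exact fun h => htr ((Nat.prime_dvd_prime_iff_eq hr ht).1 h).symm

/-- **Case (A).** -/
theorem hit_A {a b r k : ℕ} (ha : 1 ≤ a) (hn : 2 ≤ a + b) (hq : 3 ≤ Fintype.card F) (h2 : (2 : F) ≠ 0)
    (hr : r.Prime) (hr2 : r ≠ 2) (hrF : (r : F) ≠ 0) (hdc : r ∣ Nat.card (PSp (a + b) F))
    (hd : r ^ (k + 1) ∣ Fintype.card F ^ a - 1)
    (hexp : ∀ j, 1 ≤ j → j ≤ a + b → ¬ r ^ (k + 2) ∣ Fintype.card F ^ (2 * j) - 1) :
    Hit.{u, v} r (PSp (a + b) F) := by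
  obtain ⟨p, hp⟩ := CharP.exists F
  have hpp : p.Prime := CharP.char_is_prime F p
  have hrp : r ≠ p := by
    rintro rfl
    exact hrF (CharP.cast_eq_zero F r)
  have hsim : IsSimpleGroup (PSp (a + b) F) := S0270.result (a + b) hn fun _ => hq
  have := finite_psp (F := F) (a + b)
  obtain ⟨g₀, hg₀⟩ := exists_gl (F := F) (m := a) (by omega) hd
  set g := em F a b g₀ with hg
  have hgo : orderOf g = r ^ (k + 1) := by rw [hg, orderOf_injective _ (em_injective a b), hg₀]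
  have hodd : Odd (orderOf g) := by rw [hgo]; exact (hr.odd_of_ne_two hr2).pow
  have hdo : orderOf (dg g) = r ^ (k + 1) := by rw [orderOf_injective _ dg_inj, hgo]
  have hpo : orderOf (pr (a + b) F (dg g)) = r ^ (k + 1) := by
    rw [order_pr_odd (by rw [hdo]; exact (hr.odd_of_ne_two hr2).pow), hdo]
  refine hit_of_ab hr (triv_psp hn hq hr hr2 hdc) (RR (a + b) F) RR_comm (RR_card hpp hr hrp)
    (pr (a + b) F (dg g)) hpo (RR_conj g) ?_ ?_
  · have hg1 : orderOf (g ^ r ^ k) = r := by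
      rw [orderOf_pow_of_dvd (pow_ne_zero _ hr.ne_zero) (by rw [hgo]; exact pow_dvd_pow r (by omega)), hgo, pow_succ,
        Nat.mul_div_cancel_left _ (pow_pos hr.pos k)]
    obtain ⟨c, hc, hne⟩ := RR_ne h2 (g := g ^ r ^ k) (by
      intro h1
      rw [h1, orderOf_one] at hg1
      exact hr.one_lt.ne hg1) (by rw [hg1]; exact hr.odd_of_ne_two hr2)
    rw [map_pow, map_pow] at hne
    exact ⟨c, hc, hne⟩
  · intro z
    rw [hpo]
    exact order_ne hr hr2 hrF hexp z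

/-- **Case (B).** -/
theorem hit_B {a b r k : ℕ} (ha : 1 ≤ a) (hb : 1 ≤ b) (hq : 3 ≤ Fintype.card F) (h2 : (2 : F) ≠ 0)
    (hqo : Odd (Fintype.card F)) (hr : r.Prime) (hr2 : r ≠ 2) (hrF : (r : F) ≠ 0) (hrc : ¬ r ∣ Fintype.card F)
    (hdc : r ∣ Nat.card (PSp (a + b) F)) (hd : r ^ (k + 1) ∣ Fintype.card F ^ a + 1)
    (hmin : ∀ e, 1 ≤ e → e < a → ¬ r ^ (k + 1) ∣ Fintype.card F ^ (2 * e) - 1)
    (hexp : ∀ j, 1 ≤ j → j ≤ a + b → ¬ r ^ (k + 2) ∣ Fintype.card F ^ (2 * j) - 1) :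
    Hit.{u, v} r (PSp (a + b) F) := by
  have hn : 2 ≤ a + b := by omega
  have hsim : IsSimpleGroup (PSp (a + b) F) := S0270.result (a + b) hn fun _ => hq
  have := finite_psp (F := F) (a + b)
  have hq0 : 0 < Fintype.card F := by omega
  have h3 : ¬ r ^ (k + 1) ∣ Fintype.card F ^ a - 1 := fun h =>
    not_both hr hr2 hq0 ((dvd_pow_self r (by omega)).trans hd) ((dvd_pow_self r (by omega)).trans h)
  have hle : r ^ (k + 1) ≤ Fintype.card F ^ a := by
    have h4 : Even (Fintype.card F ^ a + 1) := (hqo.pow).add_one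
    have h5 : Nat.Coprime 2 (r ^ (k + 1)) := by
      have : Odd (r ^ (k + 1)) := (hr.odd_of_ne_two hr2).pow
      exact this.coprime_two_left
    have h6 : 2 * r ^ (k + 1) ∣ Fintype.card F ^ a + 1 := h5.mul_dvd_of_dvd_of_dvd (even_iff_two_dvd.1 h4) hd
    have h7 := Nat.le_of_dvd (by omega) h6
    have h8 : 0 < Fintype.card F ^ a := pow_pos hq0 a
    omega
  obtain ⟨x, hx, key⟩ := norm_B.{u, v} (F := F) hb ha h2 hr hr2 hrF hd hmin h3 hle hrc
  refine hit_of_cases hr (triv_psp hn hq hr hr2 hdc) ?_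
  intro W _ _ _ hW φ hφ
  obtain ⟨w, hw⟩ := key W hW φ hφ
  exact ⟨x, w, hw, fun z => by rw [hx]; exact order_ne hr hr2 hrF hexp z⟩

/-- the elements of the second block -/
theorem exists_two {a b : ℕ} (hb : 2 ≤ b) (h2 : (2 : F) ≠ 0) {p : ℕ} [CharP F p] (g₀ : GL (Fin a) F) :
    ∃ c d : PSp (a + b) F, c ∈ RR (a + b) F ∧ d ∈ RR (a + b) F ∧ c ^ p = 1 ∧ d ^ p = 1 ∧
      pr (a + b) F (dg (em F a b g₀)) * c = c * pr (a + b) F (dg (em F a b g₀)) ∧
      pr (a + b) F (dg (em F a b g₀)) * d = d * pr (a + b) F (dg (em F a b g₀)) ∧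
      d ∉ Subgroup.zpowers c ∧ c ≠ 1 := by
  have hfin := finite_psp (F := F) (a + b)
  set i0 : Fin b := ⟨0, by omega⟩ with hi0
  set i1 : Fin b := ⟨1, by omega⟩ with hi1
  have hne : i0 ≠ i1 := by rw [hi0, hi1]; intro h; exact absurd (congrArg Fin.val h) (by norm_num)
  have hS0 : (cM a b (Matrix.single i0 i0 (1 : F)))ᵀ = cM a b (Matrix.single i0 i0 (1 : F)) :=
    cM_transpose (transpose_single _ _ _)
  have hS1 : (cM a b (Matrix.single i1 i1 (1 : F)))ᵀ = cM a b (Matrix.single i1 i1 (1 : F)) :=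
    cM_transpose (transpose_single _ _ _)
  have hcomm : ∀ (S : Matrix (Fin b) (Fin b) F) (hS : (cM a b S)ᵀ = cM a b S),
      pr (a + b) F (dg (em F a b g₀)) * pr (a + b) F (sy _ hS) = pr (a + b) F (sy _ hS) * pr (a + b) F (dg (em F a b g₀)) := by
    intro S hS
    rw [← map_mul, ← map_mul]
    congr 1
    rw [← mul_inv_eq_iff_eq_mul, dg_sy]
    apply Subtype.ext
    show fromBlocks _ _ _ _ = fromBlocks _ _ _ _
    rw [em_cM]
  refine ⟨pr (a + b) F (sy _ hS0), pr (a + b) F (sy _ hS1), ⟨_, ⟨_, hS0, rfl⟩, rfl⟩, ⟨_, ⟨_, hS1, rfl⟩, rfl⟩,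
    ?_, ?_, hcomm _ hS0, hcomm _ hS1, ?_, ?_⟩
  · rw [← map_pow, rad_pow _ ⟨_, hS0, rfl⟩, map_one]
  · rw [← map_pow, rad_pow _ ⟨_, hS1, rfl⟩, map_one]
  · intro h
    obtain ⟨k, hk⟩ := (mem_powers_iff_mem_zpowers.2 h)
    change (pr (a + b) F (sy _ hS0)) ^ k = _ at hk
    rw [← map_pow, sy_pow] at hk
    have h3 := sy_congr (rad_inj' h2 ⟨_, _, rfl⟩ ⟨_, _, rfl⟩ hk)
    have h4 := congrFun (congrFun h3 (Fin.natAdd a i1)) (Fin.natAdd a i1)
    rw [cM_apply, Matrix.single_apply_same] at h4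
    change k • cM a b (Matrix.single i0 i0 (1 : F)) (Fin.natAdd a i1) (Fin.natAdd a i1) = 1 at h4
    rw [cM_apply, Matrix.single_apply_of_ne _ _ _ _ _ (fun h5 => hne h5.1), smul_zero] at h4
    exact zero_ne_one h4
  · intro h
    have h3 := rad_inj h2 ⟨_, hS0, rfl⟩ h
    have h4 : fromBlocks 1 (cM a b (Matrix.single i0 i0 (1 : F))) 0 1 =
        (1 : Matrix (Fin (a + b) ⊕ Fin (a + b)) (Fin (a + b) ⊕ Fin (a + b)) F) := congrArg Subtype.val h3
    rw [← fromBlocks_one] at h4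
    have h5 := (fromBlocks_inj.1 h4).2.1
    have h6 := congrFun (congrFun h5 (Fin.natAdd a i0)) (Fin.natAdd a i0)
    rw [cM_apply, Matrix.single_apply_same] at h6
    exact one_ne_zero h6

/-- **Case (C).** -/
theorem hit_C {a b r k : ℕ} (hb : 2 ≤ b) (hq : 3 ≤ Fintype.card F) (h2 : (2 : F) ≠ 0)
    (hr : r.Prime) (hr2 : r ≠ 2) (hrF : (r : F) ≠ 0)
    (hdc : r ∣ Nat.card (PSp (a + b) F)) (hd : r ^ (k + 1) ∣ Fintype.card F ^ (a + b) + 1)
    (hmin : ∀ e, 1 ≤ e → e < a + b → ¬ r ^ (k + 1) ∣ Fintype.card F ^ (2 * e) - 1)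
    (hak : a = 0 ∧ k = 0 ∨ a ≠ 0 ∧ k ≠ 0 ∧ r ^ k ∣ Fintype.card F ^ a - 1) :
    Hit.{u, v} r (PSp (a + b) F) := by
  obtain ⟨p, hp⟩ := CharP.exists F
  have hpp : p.Prime := CharP.char_is_prime F p
  have hrp : r ≠ p := by
    rintro rfl
    exact hrF (CharP.cast_eq_zero F r)
  have hn : 2 ≤ a + b := by omega
  have hsim : IsSimpleGroup (PSp (a + b) F) := S0270.result (a + b) hn fun _ => hq
  have := finite_psp (F := F) (a + b)
  have hq0 : 0 < Fintype.card F := by omega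
  have h3 : ¬ r ^ (k + 1) ∣ Fintype.card F ^ (a + b) - 1 := fun h =>
    not_both hr hr2 hq0 ((dvd_pow_self r (by omega)).trans hd) ((dvd_pow_self r (by omega)).trans h)
  have hpc : p ∣ Fintype.card F := by
    obtain ⟨n, -, hn⟩ := FiniteField.card F p
    rw [hn]
    exact dvd_pow_self p n.ne_zero
  -- the orders
  have hord : ∀ z : PSp (a + b) F, orderOf z ≠ r * (r ^ k * p) := by
    intro z hz
    obtain ⟨x, rfl⟩ := pr_surjective z
    have h4 : r ^ (k + 1) ∣ orderOf x := dvd_lift x (by rw [hz, ← mul_assoc, ← pow_succ']; exact dvd_mul_right _ _)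
    have h5 : p ∣ orderOf x := dvd_lift x (by rw [hz, ← mul_assoc]; exact dvd_mul_left _ _)
    have h6 := dvd_of_primpow hr hr2 hrF hmin h3 x (orderOf_pos x) h4
    have h7 : p ∣ Fintype.card F ^ (a + b) + 1 := h5.trans h6
    have h8 : p ∣ Fintype.card F ^ (a + b) := hpc.trans (dvd_pow_self _ (by omega))
    exact hpp.one_lt.ne' (Nat.dvd_one.1 ((Nat.dvd_add_right h8).1 h7))
  -- the element `y`
  obtain ⟨g₀, hg₀⟩ : ∃ g₀ : GL (Fin a) F, orderOf g₀ = r ^ k := by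
    rcases hak with ⟨-, rfl⟩ | ⟨h4, -, h5⟩
    · exact ⟨1, by rw [orderOf_one, pow_zero]⟩
    · exact exists_gl h4 h5
  set g := em F a b g₀ with hg
  have hgo : orderOf g = r ^ k := by rw [hg, orderOf_injective _ (em_injective a b), hg₀]
  have hdo : orderOf (dg g) = r ^ k := by rw [orderOf_injective _ dg_inj, hgo]
  set y := pr (a + b) F (dg g) with hy
  have hyo : orderOf y = r ^ k := by
    rw [hy, order_pr_odd (by rw [hdo]; exact (hr.odd_of_ne_two hr2).pow), hdo]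
  obtain ⟨c, d, hc, hd', hcp, hdp, hyc, hyd, hdc', hc1⟩ := exists_two (F := F) (p := p) hb h2 g₀
  have hyA : ∀ t ∈ RR (a + b) F, y * t * y⁻¹ ∈ RR (a + b) F := RR_conj g
  have hyiA : ∀ i : ℕ, ∀ t ∈ RR (a + b) F, y ^ i * t * (y ^ i)⁻¹ ∈ RR (a + b) F :=
    H377.CV.conj_pow_mem_aux hyA
  -- the element `z₀`
  obtain ⟨z₀, hz₀, hz1, hmove⟩ : ∃ z₀ ∈ RR (a + b) F, z₀ ≠ 1 ∧ ∀ i, 0 < i → i < r ^ k →
      ∀ D : Subgroup (PSp (a + b) F), D ≤ RR (a + b) F →
      (∀ t ∈ RR (a + b) F, y ^ i * t * (y ^ i)⁻¹ * t⁻¹ ∈ D) → z₀ ∈ D := by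
    rcases Nat.eq_zero_or_pos k with h0 | h0
    · refine ⟨c, hc, hc1, fun i hi hi' => ?_⟩
      rw [h0, pow_zero] at hi'
      omega
    · obtain ⟨l, rfl⟩ : ∃ l, k = l + 1 := ⟨k - 1, by omega⟩
      have hg1 : orderOf (g ^ r ^ l) = r := by
        rw [orderOf_pow_of_dvd (pow_ne_zero _ hr.ne_zero) (by rw [hgo]; exact pow_dvd_pow r (by omega)), hgo, pow_succ,
          Nat.mul_div_cancel_left _ (pow_pos hr.pos l)]
      obtain ⟨t₀, ht₀, hne⟩ := RR_ne h2 (g := g ^ r ^ l) (by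
        intro h1
        rw [h1, orderOf_one] at hg1
        exact hr.one_lt.ne hg1) (by rw [hg1]; exact hr.odd_of_ne_two hr2)
      rw [map_pow, map_pow] at hne
      refine ⟨y ^ r ^ l * t₀ * (y ^ r ^ l)⁻¹ * t₀⁻¹, Subgroup.mul_mem _ (hyiA _ _ ht₀) (Subgroup.inv_mem _ ht₀), ?_, ?_⟩
      · intro h4
        apply hne
        rw [mul_inv_eq_one, mul_inv_eq_iff_eq_mul] at h4
        exact h4
      · intro i hi hi' D _ hD
        obtain ⟨c', hc'⟩ := pow_mem_aux hr hyo hi hi'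
        rw [hc']
        exact move_aux (hyiA i) hD c' t₀ ht₀
  refine hit_of_cases hr (triv_psp hn hq hr hr2 hdc) ?_
  intro W _ _ _ hW φ hφ
  obtain ⟨u, hu, hu1, hup, huy, key⟩ := norm_ab hr hpp hrp hW φ (RR_comm (F := F) (n := a + b))
    (RR_card hpp hr hrp) hz₀ (fun h => hz1 (hφ _ h)) (y := y) (n := r ^ k) (pow_pos hr.pos k)
    (by rw [← hyo, pow_orderOf_eq_one]) hyA hmove hc hd' hcp hdp hyc hyd hdc' hc1
  have huo : orderOf u = p := by
    have := Fact.mk hpp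
    exact orderOf_eq_prime hup hu1
  have hxo : orderOf (u * y) = r ^ k * p := by
    have h4 : Commute u y := huy.symm
    rw [h4.orderOf_mul_eq_mul_orderOf_of_coprime, huo, hyo, mul_comm]
    rw [huo, hyo]
    exact Nat.Coprime.pow_right k ((Nat.coprime_primes hpp hr).2 (Ne.symm hrp))
  obtain ⟨w, hw⟩ := key hxo
  exact ⟨u * y, w, hw, fun z => by rw [hxo]; exact hord z⟩

/-- **`PSp_2n(q)`, `q` odd, `r` odd**, `n ≥ 2`, `n ≠ 3`. -/
theorem hit_psp_odd {n : ℕ} (hn : 2 ≤ n) (hn3 : n ≠ 3) (hqo : Odd (Fintype.card F)) {r : ℕ} (hr : r.Prime)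
    (hr2 : r ≠ 2) (hrF : (r : F) ≠ 0) : Hit.{u, v} r (PSp n F) := by
  have := finite_psp (F := F) n
  have hq1 : 1 < Fintype.card F := Fintype.one_lt_card
  have hq : 3 ≤ Fintype.card F := by
    rcases hqo with ⟨c, hc⟩
    omega
  have h2 : (2 : F) ≠ 0 := by
    intro h
    have h3 : ((2 : ℕ) : F) = 0 := by exact_mod_cast h
    obtain ⟨p, hp⟩ := CharP.exists F
    have hpp : p.Prime := CharP.char_is_prime F p
    have h4 := (CharP.cast_eq_zero_iff F p 2).1 h3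
    have h5 : p = 2 := (Nat.prime_dvd_prime_iff_eq hpp Nat.prime_two).1 h4
    subst h5
    obtain ⟨m, -, hm⟩ := FiniteField.card F 2
    have h6 : Even (Fintype.card F) := by
      rw [hm]
      exact (Nat.even_pow.2 ⟨even_two, m.ne_zero⟩)
    exact (Nat.not_even_iff_odd.2 hqo) h6
  have hrc : ¬ r ∣ Fintype.card F := by
    intro h
    obtain ⟨p, hp⟩ := CharP.exists F
    have hpp : p.Prime := CharP.char_is_prime F p
    obtain ⟨m, -, hm⟩ := FiniteField.card F p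
    rw [hm] at h
    have h5 : r = p := (Nat.prime_dvd_prime_iff_eq hr hpp).1 (hr.dvd_of_dvd_pow h)
    subst h5
    exact hrF (CharP.cast_eq_zero F r)
  by_cases hdc : r ∣ Nat.card (PSp n F)
  swap
  · exact Hit.of_not_dvd hdc
  rcases cases hq1 hr hr2 hn hn3 with h | ⟨k, i, hi1, hi2, hd, hexp⟩ | ⟨k, i, hi1, hi2, hd, hmin, hexp⟩ |
    ⟨k, hd, hmin, a, ha, hak⟩
  · exfalso
    have h3 : r ∣ Nat.card (symplecticGroup (Fin n) F) :=
      hdc.trans (Subgroup.card_quotient_dvd_card _)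
    rw [LieClassical.SympCount.card_symplecticGroup] at h3
    rcases (Nat.Prime.dvd_mul hr).1 h3 with h4 | h4
    · exact hrc (hr.dvd_of_dvd_pow h4)
    · obtain ⟨j, hj, hj'⟩ := (Prime.dvd_finsetProd_iff hr.prime _).1 h4
      rw [Finset.mem_range] at hj
      exact h (j + 1) (by omega) (by omega) hj'
  · obtain ⟨b, rfl⟩ : ∃ b, n = i + b := ⟨n - i, by omega⟩
    exact hit_A hi1 hn hq h2 hr hr2 hrF hdc hd hexp
  · obtain ⟨b, rfl⟩ : ∃ b, n = i + b := ⟨n - i, by omega⟩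
    exact hit_B hi1 (by omega) hq h2 hqo hr hr2 hrF hrc hdc hd hmin hexp
  · obtain ⟨b, rfl⟩ : ∃ b, n = a + b := ⟨n - a, by omega⟩
    exact hit_C (by omega) hq h2 hr hr2 hrF hdc hd hmin hak

end main

end Cfsg.Agent.H407.CV
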