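import Cfsg.Agent.H365.CV.X7Two
import Cfsg.Agent.H407.CV.SpOdd
import Mathlib

/-!
# S3442, row X7: `PSp_2m(q)`, `q` odd, `m ≥ 4` even (helper407; `r = 2`: helper365)
-/

set_option autoImplicit false

namespace Cfsg.Agent.H407.CV

open Cfsg.Agent.H373.CV

universe u v

/-- **Row X7.** -/
theorem x7 (F : Type v) [Field F] [Fintype F] (m : ℕ) (ho : Odd (Fintype.card F)) (hm4 : 4 ≤ m) (hm : Even m)
    (r : ℕ) (hr : r.Prime) (hrF : ¬ r ∣ Fintype.card F) : Hit.{u, v} r (PSp m F) := by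
  by_cases hr2 : r = 2
  · subst hr2
    exact H365.CV.hit_psp_even_two ho hm4 hm
  · refine hit_psp_odd (by omega) (by omega) ho hr hr2 fun h => hrF ?_
    obtain ⟨p, hp⟩ := CharP.exists F
    have hpp : p.Prime := CharP.char_is_prime F p
    have h4 := (CharP.cast_eq_zero_iff F p r).1 h
    have h5 : p = r := (Nat.prime_dvd_prime_iff_eq hpp hr).1 h4
    subst h5
    obtain ⟨n, -, hn⟩ := FiniteField.card F p
    rw [hn]
    exact dvd_pow_self p n.ne_zero

end Cfsg.Agent.H407.CV
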